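import Groth.Agent.Lib.CohPullLib.Edge
import Groth.Agent.Lib.Cohom.LinearLES
import Groth.Prelude.Def_Formal
import Mathlib.Algebra.Category.ModuleCat.Sheaf.PushforwardContinuous
import Mathlib.Algebra.Category.ModuleCat.Sheaf.PullbackFree

/-!
# The edge map of the Leray spectral sequence is injective in degree one
-/

set_option autoImplicit false
set_option backward.isDefEq.respectTransparency false
set_option linter.style.haveILetI false

universe w w' v v' u u'

open CategoryTheory CategoryTheory.Limits CategoryTheory.Abelian AlgebraicGeometry TopologicalSpace Opposite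

noncomputable section

namespace GrothLib.LerayHOne9

section Adj

variable {A : Type u} [Category.{v} A] [Abelian A] {B : Type u'} [Category.{v'} B] [Abelian B]
  [HasExt.{w} A] [HasExt.{w'} B] {L : A ⥤ B} {R : B ⥤ A} (adj : L ⊣ R)
  [L.Additive] [R.Additive] [PreservesFiniteLimits L] [PreservesFiniteColimits L] [EnoughInjectives B]

/-- The adjunction map on `Ext^1` is injective. -/
theorem injective_adjMap_one (X : A) (Y : B) : Function.Injective (ExtAdj.adjMap adj X Y 1) := by
  haveI : PreservesFiniteLimits R :=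
    (adj.rightAdjoint_preservesLimits : PreservesLimitsOfSize.{0, 0} R).preservesFiniteLimits
  haveI : R.IsRightAdjoint := adj.isRightAdjoint
  haveI : R.PreservesInjectiveObjects :=
    Functor.preservesInjectiveObjects_of_adjunction_of_preservesMonomorphisms adj
  let S : ShortComplex B := ShortComplex.mk (Injective.ι Y) (cokernel.π (Injective.ι Y)) (cokernel.condition _)
  have hS : S.ShortExact :=
    { exact := ShortComplex.exact_of_g_is_cokernel _ (cokernelIsCokernel _) }
  haveI : Injective S.X₂ := inferInstanceAs (Injective (Injective.under Y))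
  haveI : Injective (R.obj S.X₂) := R.injective_obj S.X₂
  haveI : Mono S.f := hS.mono_f
  haveI : Mono (R.map S.f) := inferInstance
  let T : ShortComplex A := ShortComplex.mk (R.map S.f) (cokernel.π (R.map S.f)) (cokernel.condition _)
  have hT : T.ShortExact :=
    { exact := ShortComplex.exact_of_g_is_cokernel _ (cokernelIsCokernel _) }
  let m : T.X₃ ⟶ R.obj S.X₃ :=
    cokernel.desc (R.map S.f) (R.map S.g) (by rw [← R.map_comp, S.zero, R.map_zero])
  have hex : (S.map R).Exact := hS.exact.map_of_mono_of_preservesKernel R hS.mono_f inferInstance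
  haveI : Mono m := hex.mono_cokernelDesc
  haveI : Injective T.X₂ := inferInstanceAs (Injective (R.obj S.X₂))
  refine (injective_iff_map_eq_zero _).2 fun x hx => ?_
  obtain ⟨a, rfl⟩ := Ext.covariant_sequence_exact₁ X hT x (Ext.eq_zero_of_injective _) rfl
  obtain ⟨a, rfl⟩ := (Ext.mk₀_bijective _ _).2 a
  let φ : T.map L ⟶ S :=
    { τ₁ := adj.counit.app S.X₁
      τ₂ := adj.counit.app S.X₂
      τ₃ := (adj.homEquiv _ _).symm m
      comm₁₂ := (adj.counit_naturality S.f).symm
      comm₂₃ := by
        change adj.counit.app S.X₂ ≫ S.g = L.map (cokernel.π (R.map S.f)) ≫ (adj.homEquiv _ _).symm m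
        rw [← Adjunction.homEquiv_naturality_left_symm, cokernel.π_desc, Adjunction.homEquiv_counit,
          adj.counit_naturality] }
  have key : (hT.map_of_exact L).extClass.comp (Ext.mk₀ (adj.counit.app S.X₁)) (add_zero 1) =
      (Ext.mk₀ ((adj.homEquiv _ _).symm m)).comp hS.extClass (zero_add 1) :=
    ShortComplex.ShortExact.extClass_naturality (hT.map_of_exact L) hS φ
  have h1 : (Ext.mk₀ (L.map a ≫ (adj.homEquiv _ _).symm m)).comp hS.extClass (zero_add 1) = 0 := by
    rw [← hx, ExtAdj.adjMap_apply, Ext.mapExactFunctor_comp, Ext.mapExactFunctor_mk₀,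
      Ext.mapExactFunctor_extClass, Ext.comp_assoc_of_third_deg_zero]
    erw [key]
    rw [← Ext.mk₀_comp_mk₀, Ext.comp_assoc_of_second_deg_zero]
  obtain ⟨z, hz⟩ := Ext.covariant_sequence_exact₃ _ hS _ rfl h1
  obtain ⟨z, rfl⟩ := (Ext.mk₀_bijective _ _).2 z
  rw [Ext.mk₀_comp_mk₀] at hz
  have h2 : z ≫ S.g = L.map a ≫ (adj.homEquiv _ _).symm m := (Ext.mk₀_bijective _ _).1 hz
  rw [← Adjunction.homEquiv_naturality_left_symm] at h2
  have h3 := congrArg (adj.homEquiv X S.X₃) h2
  rw [Equiv.apply_symm_apply, Adjunction.homEquiv_naturality_right,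
    ← cokernel.π_desc (R.map S.f) (R.map S.g) (by rw [← R.map_comp, S.zero, R.map_zero]), ← Category.assoc] at h3
  have h4 : adj.homEquiv X S.X₂ z ≫ T.g = a := (cancel_mono m).1 h3
  rw [← h4, ← Ext.mk₀_comp_mk₀, Ext.comp_assoc_of_second_deg_zero, hT.comp_extClass, Ext.comp_zero]

end Adj

variable {X Y : Scheme.{u}}

/-- The edge map is injective in degree one. -/
theorem injective_pushEdge_one (g : X ⟶ Y) (G : X.Modules) : Function.Injective (CohPull.pushEdge g G 1) := by
  haveI : (CohTop.push g.base).Additive := Functor.additive_of_preserves_binary_products _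
  have hb := injective_adjMap_one (CohPull.invPushAdj g.base) (CohTop.const Y (ULift.{u} ℤ)) (Coh.toAb G)
  have he : ⇑(CohPull.pushEdge g G 1) =
      (fun t : Ext.{u} ((CohPull.inv g.base).obj (CohTop.const Y (ULift.{u} ℤ))) (Coh.toAb G) 1 =>
        (Ext.mk₀ (CohPull.oneTo g.base)).comp t (zero_add 1)) ∘
      ⇑(GrothLib.ExtAdj.adjMap (CohPull.invPushAdj g.base) (CohTop.const Y (ULift.{u} ℤ)) (Coh.toAb G) 1) := by
    funext x
    rw [CohPullLib.pushEdge_apply]
    exact Ext.comp_assoc_of_third_deg_zero _ _ _ (zero_add 1)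
  rw [he]
  exact (CohPullLib.precomp_oneTo_bijective g.base (Coh.toAb G) 1).1.comp hb

/-- The unit `O_Y ⟶ f_* O_X`. -/
def uMap (f : X ⟶ Y) :
    (Coh.structureModule Y) ⟶ (Scheme.Modules.pushforward f).obj (Coh.structureModule X) :=
  SheafOfModules.unitToPushforwardObjUnit f.toRingCatSheafHom

theorem uMap_smul (f : X ⟶ Y) (r : Coh.Γtop Y) :
    Formal.smulModΓ (Coh.structureModule Y) r ≫ uMap f =
      uMap f ≫ (Scheme.Modules.pushforward f).map (Formal.smulModΓ (Coh.structureModule X) (f.appTop r)) := by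
  refine Scheme.Modules.hom_ext _ _ fun U => AddCommGrpCat.hom_ext (AddMonoidHom.ext fun (m : Γ(Y, U)) => ?_)
  change (f.app U).hom ((Y.presheaf.map (homOfLE le_top).op r : Γ(Y, U)) * m) =
    (X.presheaf.map (homOfLE le_top).op (f.appTop r) : Γ(X, f ⁻¹ᵁ U)) * (f.app U).hom m
  refine (map_mul (f.app U).hom _ _).trans (congrArg (· * _) ?_)
  exact congr($(f.naturality (homOfLE (le_top (a := U))).op) r)

theorem isIso_uMap (f : X ⟶ Y) (h : ∀ V : Y.Opens, IsIso (f.app V)) : IsIso (uMap f) := by
  rw [Scheme.Modules.Hom.isIso_iff_isIso_app]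
  intro U
  rw [ConcreteCategory.isIso_iff_bijective]
  haveI := h U
  exact ConcreteCategory.bijective_of_isIso (f.app U)

theorem mapH_smul (M : X.Modules) (r : Coh.Γtop X) (n : ℕ) (x : Coh.HH X M n) :
    CohPull.mapH (Formal.smulModΓ M r) n x = r • x := by
  rw [CohPullLib.mapH_apply]
  rfl

end GrothLib.LerayHOne9
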